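import Groth.Agent.LocFree.Summand
import Groth.Agent.WeakAssLib.Basic
import Groth.Agent.QC.Support
import Mathlib

/-!
# Properties of finite locally free modules
-/

set_option autoImplicit false
set_option backward.isDefEq.respectTransparency false

universe u

open CategoryTheory CategoryTheory.Limits AlgebraicGeometry TopologicalSpace Opposite Groth.Agent.QC

namespace Groth.Agent.LocFree

/-- Finite presentation is local on a finite cover by basic opens. -/
theorem fp_of_span {R M : Type u} [CommRing R] [AddCommGroup M] [Module R M] [Module.Finite R M]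
    (t : Finset R) (ht : Ideal.span (t : Set R) = ⊤)
    {Mₚ : t → Type u} [∀ g, AddCommGroup (Mₚ g)] [∀ g, Module R (Mₚ g)]
    {Rₚ : t → Type u} [∀ g, CommRing (Rₚ g)] [∀ g, Algebra R (Rₚ g)]
    [∀ g : t, IsLocalization.Away g.val (Rₚ g)]
    [∀ g, Module (Rₚ g) (Mₚ g)] [∀ g, IsScalarTower R (Rₚ g) (Mₚ g)]
    (f : ∀ g, M →ₗ[R] Mₚ g) [∀ g : t, IsLocalizedModule.Away g.val (f g)]
    (H : ∀ g, Module.FinitePresentation (Rₚ g) (Mₚ g)) : Module.FinitePresentation R M := by
  obtain ⟨n, φ, hφ⟩ := Module.Finite.exists_fin' R M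
  refine Module.finitePresentation_of_free_of_surjective φ hφ ?_
  rw [← Module.Finite.iff_fg]
  let L : ∀ g : t, (Fin n → R) →ₗ[R] (Fin n → Rₚ g) := fun g =>
    LinearMap.pi fun i => (Algebra.linearMap R (Rₚ g)).comp (LinearMap.proj i)
  haveI : ∀ g : t, IsLocalizedModule.Away g.val (L g) := fun g =>
    IsLocalizedModule.pi (Submonoid.powers g.val) fun _ => Algebra.linearMap R (Rₚ g)
  letI : ∀ g : t, Module (Rₚ g)
      (LinearMap.ker (IsLocalizedModule.map (Submonoid.powers g.val) (L g) (f g) φ)) := fun g =>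
    inferInstanceAs (Module (Rₚ g) (LinearMap.ker
      ((IsLocalizedModule.map (Submonoid.powers g.val) (L g) (f g) φ).extendScalarsOfIsLocalization
        (Submonoid.powers g.val) (Rₚ g))))
  haveI : ∀ g : t, IsScalarTower R (Rₚ g)
      (LinearMap.ker (IsLocalizedModule.map (Submonoid.powers g.val) (L g) (f g) φ)) := fun g =>
    ⟨fun a b c => Subtype.ext (smul_assoc a b (c : Fin n → Rₚ g))⟩
  haveI : ∀ g : t, IsLocalizedModule.Away g.val
      (LinearMap.toKerIsLocalized (Submonoid.powers g.val) (L g) (f g) φ) := fun g =>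
    LinearMap.toKerLocalized_isLocalizedModule (Rₚ g) (Submonoid.powers g.val) (L g) (f g) φ
  refine Module.Finite.of_localizationSpan_finite' (Rₚ := Rₚ) t ht
    (fun g => LinearMap.toKerIsLocalized (Submonoid.powers g.val) (L g) (f g) φ) fun g => ?_
  have := H g
  exact Module.Finite.iff_fg.2 (Module.FinitePresentation.fg_ker
    ((IsLocalizedModule.map (Submonoid.powers g.val) (L g) (f g) φ).extendScalarsOfIsLocalization
      (Submonoid.powers g.val) (Rₚ g))
    (IsLocalizedModule.map_surjective (Submonoid.powers g.val) (L g) (f g) φ hφ))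

variable {X : Scheme.{u}} {M : X.Modules}

/-- Sections over a basic open are a localised module. -/
theorem exists_resMap (hM : Coh.IsQCoh M) {U : X.Opens} (hU : IsAffineOpen U) (r : Γ(X, U)) :
    letI := Module.compHom Γ(M, X.basicOpen r) (resO X (X.basicOpen_le r))
    ∃ g : Γ(M, U) →ₗ[Γ(X, U)] Γ(M, X.basicOpen r), IsLocalizedModule (Submonoid.powers r) g ∧
      IsScalarTower Γ(X, U) Γ(X, X.basicOpen r) Γ(M, X.basicOpen r) := by
  letI := Module.compHom Γ(M, X.basicOpen r) (resO X (X.basicOpen_le r))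
  let D := X.basicOpen r
  haveI := hU.isLocalization_basicOpen r
  haveI : IsScalarTower Γ(X, U) Γ(X, D) Γ(M, D) :=
    ⟨fun a c m => mul_smul (resO X (X.basicOpen_le r) a) c m⟩
  have hloc : IsLoc M U := isLoc_of_isQCoh hU (hM := hM)
  let g : Γ(M, U) →ₗ[Γ(X, U)] Γ(M, D) :=
    { toFun := res M (X.basicOpen_le r)
      map_add' := map_add _
      map_smul' := fun a s => res_smul M _ a s }
  refine ⟨g, IsLocalizedModule.Away.mk_of_addCommGroup ?_ ?_ ?_, inferInstance⟩
  · have hu : IsUnit (algebraMap Γ(X, U) Γ(X, D) r) := IsLocalization.Away.algebraMap_isUnit r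
    rw [Module.End.isUnit_iff]
    exact hu.smul_bijective
  · intro y
    obtain ⟨n, s, hs⟩ := hloc.exists_extend r y
    exact ⟨n, s, (show res M (X.basicOpen_le r) s = r ^ n • y by
      rw [hs, ← map_pow]; rfl).symm⟩
  · intro s hs
    exact hloc.exists_pow_smul_eq_zero r s hs

theorem isQCoh_freeMod (X : Scheme.{u}) (n : ℕ) : Coh.IsQCoh (FlatMod.freeMod X n) :=
  isQCoh_of_iso (X := X) (Sigma.whiskerEquiv (f := fun _ : ULift.{u} (Fin n) => Coh.structureModule X)
      (g := fun _ : Fin n => Coh.structureModule X) Equiv.ulift (fun _ => Iso.refl _))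
    (show Coh.IsQCoh (SheafOfModules.free.{u} (R := X.ringCatSheaf) (ULift.{u} (Fin n))) from inferInstance)

theorem isQCoh_of_isFinLocFree (h : FlatMod.IsFinLocFree M) : Coh.IsQCoh M :=
  isQCoh_of_local fun x => by
    obtain ⟨U, n, hx, ⟨e⟩⟩ := h x
    exact ⟨_, U.ι, inferInstance, by simpa using hx, isQCoh_of_iso e.symm (isQCoh_freeMod _ n)⟩

theorem free_sections_of_le {W : X.Opens} {n : ℕ} (e : M.restrict W.ι ≅ FlatMod.freeMod (↑W) n)
    {D : X.Opens} (hD : IsAffineOpen D) (hDW : D ≤ W) :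
    Module.Free Γ(X, D) Γ(M, D) ∧ Module.Finite Γ(X, D) Γ(M, D) := by
  let ι' : Spec Γ(X, D) ⟶ (W : Scheme.{u}) :=
    IsOpenImmersion.lift W.ι hD.fromSpec (by rw [hD.range_fromSpec, Scheme.Opens.range_ι]; exact hDW)
  have hι : ι' ≫ W.ι = hD.fromSpec := IsOpenImmersion.lift_fac _ _ _
  haveI : IsOpenImmersion (ι' ≫ W.ι) := by rw [hι]; infer_instance
  haveI : IsOpenImmersion ι' := IsOpenImmersion.of_comp ι' W.ι
  let e' : M.restrict hD.fromSpec ≅ FlatMod.freeMod (Spec Γ(X, D)) n :=
    (Scheme.Modules.restrictFunctorCongr hι).symm.app M ≪≫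
      (Scheme.Modules.restrictFunctorComp ι' W.ι).app M ≪≫
      (Scheme.Modules.restrictFunctor ι').mapIso e ≪≫
      (Scheme.Modules.restrictFunctorIsoPullback ι').app _ ≪≫
      Groth.Agent.DerPerf.pullFreeIso ι' n
  let e'' : M.restrict hD.fromSpec ≅ tilde (ModuleCat.of Γ(X, D) (ULift.{u} (Fin n) →₀ Γ(X, D))) :=
    e' ≪≫ (Sigma.whiskerEquiv (f := fun _ : ULift.{u} (Fin n) => Coh.structureModule (Spec Γ(X, D)))
      (g := fun _ : Fin n => Coh.structureModule (Spec Γ(X, D))) Equiv.ulift (fun _ => Iso.refl _)).symm ≪≫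
      (tildeFinsupp (R := Γ(X, D)) (ULift.{u} (Fin n))).symm
  let l : Γ(M, D) ≃ₗ[Γ(X, D)] (ULift.{u} (Fin n) →₀ Γ(X, D)) :=
    (topEquiv hD M).symm.trans (moduleSpecΓFunctor.mapIso e'' ≪≫
      (tilde.toTildeΓNatIso.app (ModuleCat.of Γ(X, D) (ULift.{u} (Fin n) →₀ Γ(X, D)))).symm).toLinearEquiv
  exact ⟨Module.Free.of_equiv l.symm, Module.Finite.equiv l.symm⟩

theorem finitePresentation_sections_of_local (hM : Coh.IsQCoh M) {U : X.Opens} (hU : IsAffineOpen U)
    (h : ∀ x ∈ U, ∃ W : X.Opens, x ∈ W ∧ ∀ D : X.Opens, IsAffineOpen D → D ≤ W →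
      Module.FinitePresentation Γ(X, D) Γ(M, D)) :
    Module.FinitePresentation Γ(X, U) Γ(M, U) := by
  classical
  have hpt : ∀ x : U, ∃ f : Γ(X, U), x.1 ∈ X.basicOpen f ∧
      Module.FinitePresentation Γ(X, X.basicOpen f) Γ(M, X.basicOpen f) := by
    intro x
    obtain ⟨W, hxW, hW⟩ := h x.1 x.2
    obtain ⟨f, hfW, hxf⟩ := hU.exists_basicOpen_le (⟨x.1, hxW⟩ : W) x.2
    exact ⟨f, hxf, hW _ (hU.basicOpen f) hfW⟩
  choose f hxf hfin using hpt
  have hspan : Ideal.span (Set.range f) = ⊤ :=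
    hU.self_le_iSup_basicOpen_iff.mp fun x hx ↦ Opens.mem_iSup.mpr ⟨⟨_, ⟨x, hx⟩, rfl⟩, hxf ⟨x, hx⟩⟩
  obtain ⟨F, hF1, hF⟩ := Submodule.mem_span_finite_of_mem_span ((Ideal.eq_top_iff_one _).mp hspan)
  have hFtop : Ideal.span (F : Set Γ(X, U)) = ⊤ := (Ideal.eq_top_iff_one _).mpr hF
  have hfin' : ∀ g : F, Module.FinitePresentation Γ(X, X.basicOpen g.1) Γ(M, X.basicOpen g.1) := by
    intro g
    obtain ⟨x, hx⟩ := hF1 g.2
    rw [← hx]
    exact hfin x
  haveI : Module.Finite Γ(X, U) Γ(M, U) :=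
    finite_of_basicOpen_cover hU (hM := hM) F hFtop fun g hg => by
      have := hfin' ⟨g, hg⟩
      infer_instance
  letI : ∀ g : F, Module Γ(X, U) Γ(M, X.basicOpen g.1) := fun g =>
    Module.compHom Γ(M, X.basicOpen g.1) (resO X (X.basicOpen_le g.1))
  choose g hg hT using fun r : F => exists_resMap hM hU r.1
  haveI := hT
  haveI : ∀ r : F, IsLocalization.Away r.1 Γ(X, X.basicOpen r.1) := fun r => hU.isLocalization_basicOpen r.1
  haveI := hg
  exact fp_of_span (Rₚ := fun r : F => Γ(X, X.basicOpen r.1)) F hFtop g hfin'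

theorem finitePresentation_sections (h : FlatMod.IsFinLocFree M) {U : X.Opens} (hU : IsAffineOpen U) :
    Module.FinitePresentation Γ(X, U) Γ(M, U) :=
  finitePresentation_sections_of_local (isQCoh_of_isFinLocFree h) hU fun x _ => by
    obtain ⟨W, n, hx, ⟨e⟩⟩ := h x
    refine ⟨W, hx, fun D hD hDW => ?_⟩
    obtain ⟨h1, h2⟩ := free_sections_of_le e hD hDW
    exact Module.finitePresentation_of_projective _ _

theorem isFP_of_isFinLocFree (h : FlatMod.IsFinLocFree M) : CohB1.IsFP M := by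
  refine isFP_iff_exists_hasFinPres.mpr fun x => ?_
  obtain ⟨U, hU, hx⟩ := exists_affine_mem x
  haveI := finitePresentation_sections h hU
  exact ⟨U, hx, hasFinPres_of_finitePresentation hU (hM := isQCoh_of_isFinLocFree h)⟩

theorem isFT_of_isFinLocFree (h : FlatMod.IsFinLocFree M) : CohB1.IsFT M := by
  refine (isFT_iff_finite_sections (hM := isQCoh_of_isFinLocFree h)).mpr fun V => ?_
  have := finitePresentation_sections h V.2
  infer_instance

theorem fp_of_presentation {R : CommRingCat.{u}} {N : ModuleCat.{u} R}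
    (P : SheafOfModules.Presentation.{u} (tilde N)) (hP : P.IsFinite) :
    Module.FinitePresentation R N := by
  haveI hI : Finite P.generators.I := hP.isFiniteType_generators.finite
  haveI hJ : Finite P.relations.I := hP.isFiniteType_relations.finite
  obtain ⟨g, hg⟩ := (tilde.functor R).map_surjective
    ((tildeFinsupp (R := R) P.generators.I).hom ≫ P.generators.π)
  haveI : Epi (tilde.map g) := by
    change Epi ((tilde.functor _).map g)
    rw [hg]
    exact @epi_comp _ _ _ _ _ _ inferInstance _ P.generators.epi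
  have hgs : Function.Surjective g.hom := surjective_of_epi_tilde g
  let eK : kernel P.generators.π ≅ tilde (ModuleCat.of R (LinearMap.ker g.hom)) :=
    (kernel.mapIso _ _ (tildeFinsupp (R := R) P.generators.I) (Iso.refl _)
      (by rw [Iso.refl_hom, Category.comp_id]; exact hg)).symm ≪≫
    (PreservesKernel.iso (tilde.functor R) g).symm ≪≫
      (tilde.functor R).mapIso (ModuleCat.kernelIsoKer g)
  haveI : Module.Finite R (LinearMap.ker g.hom) :=
    finite_of_generatingSections (P.relations.ofEpi eK.hom) ⟨show Finite P.relations.I from hJ⟩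
  exact Module.finitePresentation_of_surjective g.hom hgs (Module.Finite.iff_fg.1 ‹_›)

theorem fp_of_hasFinPres (hM : Coh.IsQCoh M) {D : X.Opens} (hD : IsAffineOpen D)
    (h : HasFinPres M D) : Module.FinitePresentation Γ(X, D) Γ(M, D) := by
  obtain ⟨P, hP⟩ := h
  haveI : (M.restrict hD.fromSpec).IsQuasicoherent := isQCoh_restrict hD.fromSpec hM
  haveI : PreservesColimitsOfSize.{u, u} (Scheme.Modules.restrictFunctor hD.isoSpec.inv) :=
    inferInstance
  let N := (modulesSpecToSheaf.obj (M.restrict hD.fromSpec)).presheaf.obj (op ⊤)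
  let P0 := P.map (Scheme.Modules.restrictFunctor hD.isoSpec.inv)
    (Scheme.Modules.restrictUnitIso _).symm
  have hP0 : P0.IsFinite := isFinite_map P _ _
  let e : (Scheme.Modules.restrictFunctor hD.isoSpec.inv).obj (M.restrict D.ι) ≅ tilde N :=
    toSpecIso hD M ≪≫ (isoTildeΓ (M.restrict hD.fromSpec)).symm
  haveI : Module.FinitePresentation Γ(X, D) N :=
    fp_of_presentation (P0.ofIsIso e.hom) ⟨⟨hP0.isFiniteType_generators.finite⟩,
      ⟨hP0.isFiniteType_relations.finite⟩⟩
  exact @Module.FinitePresentation.of_equiv _ _ _ _ _ _ _ _ (topEquiv hD M) ‹_›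

theorem finitePresentation_sections_of_isFP (hM : Coh.IsQCoh M) (h : CohB1.IsFP M) {U : X.Opens}
    (hU : IsAffineOpen U) : Module.FinitePresentation Γ(X, U) Γ(M, U) := by
  refine finitePresentation_sections_of_local hM hU fun x _ => ?_
  obtain ⟨W, hx, hW⟩ := isFP_iff_exists_hasFinPres.mp h x
  exact ⟨W, hx, fun D hD hDW => fp_of_hasFinPres hM hD (hW.mono hDW)⟩

variable {U : X.Opens} (hU : IsAffineOpen U)

/-- The stalk is the localisation of the sections at the prime. -/
theorem exists_stalkMap (hM : Coh.IsQCoh M) {x : X} (hx : x ∈ U) :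
    letI := Module.compHom (M.presheaf.stalk x) (X.presheaf.germ U x hx).hom
    ∃ g : Γ(M, U) →ₗ[Γ(X, U)] M.presheaf.stalk x,
      IsLocalizedModule (hU.primeIdealOf ⟨x, hx⟩).asIdeal.primeCompl g := by
  letI := Module.compHom (M.presheaf.stalk x) (X.presheaf.germ U x hx).hom
  have hF : IsLoc M U := isLoc_of_isQCoh hU (hM := hM)
  let g : Γ(M, U) →ₗ[Γ(X, U)] M.presheaf.stalk x :=
    { toFun := WeakAssLib.mgerm M hx
      map_add' := map_add _
      map_smul' := fun a s => WeakAssLib.mgerm_smul M hx a s }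
  refine ⟨g, ⟨fun a => ?_, fun t => ?_, fun {s s'} hs => ?_⟩⟩
  · rw [Module.End.isUnit_iff]
    exact (WeakAssLib.isUnit_germ hU hx a.2).smul_bijective
  · obtain ⟨a, s, ha, has⟩ := WeakAssLib.exists_germ hU hF hx t
    exact ⟨(s, ⟨a, ha⟩), has⟩
  · have h0 : WeakAssLib.mgerm M hx (s - s') = 0 := by
      rw [map_sub, sub_eq_zero]; exact hs
    obtain ⟨a, ha, has⟩ := (WeakAssLib.germ_eq_zero_iff hU hF hx _).1 h0
    exact ⟨⟨a, ha⟩, by
      change a • s = a • s'
      rw [← sub_eq_zero, ← smul_sub, has]⟩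

include hU in
theorem free_stalk (hM : Coh.IsQCoh M) {x : X} (hx : x ∈ U)
    [Module.FinitePresentation Γ(X, U) Γ(M, U)] (hflat : Module.Flat (X.presheaf.stalk x) (M.presheaf.stalk x)) :
    Module.Free (X.presheaf.stalk x) (M.presheaf.stalk x) := by
  letI := (X.presheaf.germ U x hx).hom.toAlgebra
  haveI := hU.isLocalization_stalk ⟨x, hx⟩
  obtain ⟨g, hg⟩ := exists_stalkMap hU hM hx
  letI := Module.compHom (M.presheaf.stalk x) (X.presheaf.germ U x hx).hom
  haveI : IsScalarTower Γ(X, U) (X.presheaf.stalk x) (M.presheaf.stalk x) :=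
    ⟨fun a c m => mul_smul ((X.presheaf.germ U x hx).hom a) c m⟩
  haveI := hg
  haveI : Module.Finite (X.presheaf.stalk x) (M.presheaf.stalk x) :=
    Module.Finite.of_isLocalizedModule (hU.primeIdealOf ⟨x, hx⟩).asIdeal.primeCompl
      (Rₚ := X.presheaf.stalk x) g
  exact Module.free_of_flat_of_isLocalRing

include hU in
theorem flat_sections (hM : Coh.IsQCoh M) (hflat : FlatMod.IsFlat M) :
    Module.Flat Γ(X, U) Γ(M, U) := by
  refine Module.flat_of_localized_maximal Γ(M, U) fun P hP => ?_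
  let z : PrimeSpectrum Γ(X, U) := ⟨P, hP.isPrime⟩
  have hx : hU.fromSpec z ∈ U := hU.range_fromSpec.subset ⟨z, rfl⟩
  have hprime : (hU.primeIdealOf ⟨hU.fromSpec z, hx⟩).asIdeal = P :=
    congrArg PrimeSpectrum.asIdeal (show hU.primeIdealOf ⟨hU.fromSpec z, hx⟩ = z from
      hU.fromSpec.isOpenEmbedding.injective (hU.fromSpec_primeIdealOf ⟨hU.fromSpec z, hx⟩))
  let x : X := hU.fromSpec z
  letI := Module.compHom (M.presheaf.stalk x) (X.presheaf.germ U x hx).hom
  obtain ⟨g, hg⟩ := exists_stalkMap hU hM hx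
  letI := (X.presheaf.germ U x hx).hom.toAlgebra
  haveI := hU.isLocalization_stalk ⟨x, hx⟩
  haveI : IsScalarTower Γ(X, U) (X.presheaf.stalk x) (M.presheaf.stalk x) :=
    ⟨fun a c m => mul_smul ((X.presheaf.germ U x hx).hom a) c m⟩
  haveI : Module.Flat (X.presheaf.stalk x) (M.presheaf.stalk x) := hflat x
  haveI : Module.Flat Γ(X, U) (X.presheaf.stalk x) :=
    IsLocalization.flat (X.presheaf.stalk x) (hU.primeIdealOf ⟨x, hx⟩).asIdeal.primeCompl
  haveI : Module.Flat Γ(X, U) (M.presheaf.stalk x) :=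
    Module.Flat.trans Γ(X, U) (X.presheaf.stalk x) (M.presheaf.stalk x)
  haveI : IsLocalizedModule P.primeCompl g := by
    convert hg using 2
    exact hprime.symm
  exact Module.Flat.of_linearEquiv (IsLocalizedModule.iso P.primeCompl g)

theorem isFinLocFree_of_isFP_of_flat (hM : Coh.IsQCoh M) (hfp : CohB1.IsFP M)
    (hflat : FlatMod.IsFlat M) : FlatMod.IsFinLocFree M :=
  isFinLocFree_of_affine_projective hM fun x => by
    obtain ⟨U, hU, hx⟩ := exists_affine_mem x
    exact ⟨U, hU, hx, finitePresentation_sections_of_isFP hM hfp hU, flat_sections hU hM hflat⟩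

theorem free_stalk_of_isFinLocFree (h : FlatMod.IsFinLocFree M) (x : X) :
    Module.Free (X.presheaf.stalk x) (M.presheaf.stalk x) := by
  obtain ⟨U, hU, hx⟩ := exists_affine_mem x
  have := finitePresentation_sections h hU
  exact free_stalk hU (isQCoh_of_isFinLocFree h) hx (Groth.Agent.DerPerf.isFlat_of_isFinLocFree h x)

theorem projective_sections (h : FlatMod.IsFinLocFree M) {U : X.Opens} (hU : IsAffineOpen U) :
    Module.Projective Γ(X, U) Γ(M, U) := by
  have := finitePresentation_sections h hU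
  have := flat_sections hU (isQCoh_of_isFinLocFree h) (Groth.Agent.DerPerf.isFlat_of_isFinLocFree h)
  exact Module.Flat.projective_of_finitePresentation

end Groth.Agent.LocFree
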