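import Groth.Agent.LocFree.Props
import Mathlib

/-!
# Finite locally free modules and the rank function
-/

set_option autoImplicit false
set_option backward.isDefEq.respectTransparency false

universe u

open CategoryTheory CategoryTheory.Limits AlgebraicGeometry TopologicalSpace Opposite Groth.Agent.QC
open TensorProduct Groth.Agent.WeakAssLib

namespace Groth.Agent.LocFree

variable {X : Scheme.{u}} {M : X.Modules}

/-- The rank of a module at a point. -/
noncomputable abbrev rk (M : X.Modules) (x : X) : ℕ :=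
  Module.finrank (IsLocalRing.ResidueField (X.presheaf.stalk x))
    (TensorProduct (X.presheaf.stalk x) (IsLocalRing.ResidueField (X.presheaf.stalk x)) (M.presheaf.stalk x))

variable {U : X.Opens} (hU : IsAffineOpen U)

include hU in
theorem span_germ (hM : Coh.IsQCoh M) {x : X} (hx : x ∈ U) {ι : Type*} (s : ι → Γ(M, U))
    (hs : Submodule.span Γ(X, U) (Set.range s) = ⊤) :
    Submodule.span (X.presheaf.stalk x) (Set.range fun i => mgerm M hx (s i)) = ⊤ := by
  refine eq_top_iff.mpr fun t _ => ?_
  obtain ⟨a, m, ha, ham⟩ := exists_germ hU (isLoc_of_isQCoh hU (hM := hM)) hx t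
  have hu := isUnit_germ hU hx ha
  rw [← Submodule.smul_mem_iff_of_isUnit _ hu, ham]
  clear ham
  have hm : m ∈ Submodule.span Γ(X, U) (Set.range s) := hs ▸ trivial
  induction hm using Submodule.span_induction with
  | mem y hy =>
    obtain ⟨i, rfl⟩ := hy
    exact Submodule.subset_span ⟨i, rfl⟩
  | zero => rw [map_zero]; exact Submodule.zero_mem _
  | add a b _ _ iha ihb => rw [map_add]; exact Submodule.add_mem _ iha ihb
  | smul c a _ iha => rw [mgerm_smul]; exact Submodule.smul_mem _ _ iha

include hU in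
theorem finite_stalk (hM : Coh.IsQCoh M) {x : X} (hx : x ∈ U) [Module.Finite Γ(X, U) Γ(M, U)] :
    Module.Finite (X.presheaf.stalk x) (M.presheaf.stalk x) := by
  obtain ⟨n, s, hs⟩ := Module.Finite.exists_fin (R := Γ(X, U)) (M := Γ(M, U))
  have h := span_germ hU hM hx s hs
  exact ⟨Submodule.fg_def.mpr ⟨_, Set.finite_range _, h⟩⟩

theorem span_residue {x : X} {ι : Type*} (v : ι → M.presheaf.stalk x)
    (hv : Submodule.span (X.presheaf.stalk x) (Set.range v) = ⊤) :
    Submodule.span (IsLocalRing.ResidueField (X.presheaf.stalk x))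
      (Set.range fun i => (1 : IsLocalRing.ResidueField (X.presheaf.stalk x)) ⊗ₜ[X.presheaf.stalk x] v i) = ⊤ := by
  have h := Submodule.baseChange_span (A := IsLocalRing.ResidueField (X.presheaf.stalk x))
    (R := X.presheaf.stalk x) (M := M.presheaf.stalk x) (Set.range v)
  rw [hv, Submodule.baseChange_top, ← Set.range_comp] at h
  exact h.symm

theorem indep_residue {x : X} {n : ℕ} (v : Fin n → M.presheaf.stalk x)
    (hv : Submodule.span (X.presheaf.stalk x) (Set.range v) = ⊤) (hn : rk M x = n) :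
    LinearIndependent (IsLocalRing.ResidueField (X.presheaf.stalk x))
      (fun i => (1 : IsLocalRing.ResidueField (X.presheaf.stalk x)) ⊗ₜ[X.presheaf.stalk x] v i) :=
  linearIndependent_of_top_le_span_of_card_eq_finrank (span_residue v hv).ge
    ((Fintype.card_fin n).trans hn.symm)

theorem rk_of_basis {x : X} {ι : Type*} [Fintype ι]
    (b : Module.Basis ι (X.presheaf.stalk x) (M.presheaf.stalk x)) : rk M x = Fintype.card ι :=
  Module.finrank_eq_card_basis (b.baseChange (IsLocalRing.ResidueField (X.presheaf.stalk x)))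

include hU in
theorem exists_spanning (hM : Coh.IsQCoh M) [Module.Finite Γ(X, U) Γ(M, U)] {x : X} (hx : x ∈ U) :
    ∃ (r : Γ(X, U)) (s : Fin (rk M x) → Γ(M, X.basicOpen r)), x ∈ X.basicOpen r ∧
      Submodule.span Γ(X, X.basicOpen r) (Set.range s) = ⊤ := by
  classical
  haveI := finite_stalk hU hM hx
  set κ := IsLocalRing.ResidueField (X.presheaf.stalk x)
  have hgen : ∀ w : κ ⊗[X.presheaf.stalk x] M.presheaf.stalk x, ∃ t, (1 : κ) ⊗ₜ t = w := fun w =>
    TensorProduct.mk_surjective (X.presheaf.stalk x) (M.presheaf.stalk x) κ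
      Ideal.Quotient.mk_surjective w
  let b := Module.finBasis κ (κ ⊗[X.presheaf.stalk x] M.presheaf.stalk x)
  choose t ht using fun i => hgen (b i)
  have htop : Submodule.span (X.presheaf.stalk x) (Set.range t) = ⊤ := by
    exact IsLocalRing.span_eq_top_of_tmul_eq_basis t b ht
  choose a m ha ham using fun i => exists_germ hU (isLoc_of_isQCoh hU (hM := hM)) hx (t i)
  have htop' : Submodule.span (X.presheaf.stalk x) (Set.range fun i => mgerm M hx (m i)) = ⊤ := by
    rw [eq_top_iff, ← htop, Submodule.span_le]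
    rintro _ ⟨i, rfl⟩
    rw [SetLike.mem_coe, ← Submodule.smul_mem_iff_of_isUnit _ (isUnit_germ hU hx (ha i)), ham]
    exact Submodule.subset_span ⟨i, rfl⟩
  obtain ⟨k, g, hg⟩ := Module.Finite.exists_fin (R := Γ(X, U)) (M := Γ(M, U))
  have hr : ∀ j, ∃ r, r ∉ (hU.primeIdealOf ⟨x, hx⟩).asIdeal ∧
      r • g j ∈ Submodule.span Γ(X, U) (Set.range m) := by
    intro j
    have hmem : mgerm M hx (g j) ∈
        Submodule.span (X.presheaf.stalk x) (Set.range fun i => mgerm M hx (m i)) := htop' ▸ trivial
    obtain ⟨c, hc⟩ := (Submodule.mem_span_range_iff_exists_fun _).1 hmem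
    letI := (X.presheaf.germ U x hx).hom.toAlgebra
    haveI := hU.isLocalization_stalk ⟨x, hx⟩
    obtain ⟨d, hd⟩ := IsLocalization.exist_integer_multiples_of_finite
      (hU.primeIdealOf ⟨x, hx⟩).asIdeal.primeCompl c
    choose e he using hd
    have h0 : mgerm M hx ((d : Γ(X, U)) • g j - ∑ i, e i • m i) = 0 := by
      rw [map_sub, map_sum, sub_eq_zero, mgerm_smul, ← hc, Finset.smul_sum]
      refine Finset.sum_congr rfl fun i _ => ?_
      rw [mgerm_smul, ← mul_smul]
      exact congrArg (· • mgerm M hx (m i)) (he i).symm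
    obtain ⟨f, hf, hf0⟩ := (germ_eq_zero_iff hU (isLoc_of_isQCoh hU (hM := hM)) hx _).1 h0
    refine ⟨f * d, fun h => ((hU.primeIdealOf ⟨x, hx⟩).isPrime.mem_or_mem h).elim hf d.2, ?_⟩
    rw [smul_sub, sub_eq_zero, ← mul_smul] at hf0
    rw [hf0]
    exact Submodule.smul_mem _ _ (Submodule.sum_mem _ fun i _ =>
      Submodule.smul_mem _ _ (Submodule.subset_span ⟨i, rfl⟩))
  choose r hr1 hr2 using hr
  have hxr : x ∈ X.basicOpen (∏ j, r j) := by
    rw [mem_primeIdealOf hU hx]
    intro h
    obtain ⟨j, -, hj⟩ := (hU.primeIdealOf ⟨x, hx⟩).isPrime.prod_mem_iff.1 h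
    exact hr1 j hj
  set R := ∏ j, r j
  refine ⟨R, fun i => res M (X.basicOpen_le R) (m i), hxr, eq_top_iff.mpr fun y _ => ?_⟩
  have hall : ∀ z : Γ(M, U), R • z ∈ Submodule.span Γ(X, U) (Set.range m) := by
    intro z
    have hz : z ∈ Submodule.span Γ(X, U) (Set.range g) := hg ▸ trivial
    induction hz using Submodule.span_induction with
    | mem z hz =>
      obtain ⟨j, rfl⟩ := hz
      obtain ⟨q, hq⟩ := Finset.dvd_prod_of_mem r (Finset.mem_univ j)
      rw [show R = q * r j from hq.trans (mul_comm _ _), mul_smul]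
      exact Submodule.smul_mem _ _ (hr2 j)
    | zero => rw [smul_zero]; exact Submodule.zero_mem _
    | add a b _ _ iha ihb => rw [smul_add]; exact Submodule.add_mem _ iha ihb
    | smul c a _ iha => rw [smul_comm]; exact Submodule.smul_mem _ _ iha
  have hres : ∀ z ∈ Submodule.span Γ(X, U) (Set.range m), res M (X.basicOpen_le R) z ∈
      Submodule.span Γ(X, X.basicOpen R) (Set.range fun i => res M (X.basicOpen_le R) (m i)) := by
    intro z hz
    induction hz using Submodule.span_induction with
    | mem z hz =>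
      obtain ⟨i, rfl⟩ := hz
      exact Submodule.subset_span ⟨i, rfl⟩
    | zero => rw [map_zero]; exact Submodule.zero_mem _
    | add a b _ _ iha ihb => rw [map_add]; exact Submodule.add_mem _ iha ihb
    | smul c a _ iha => rw [res_smul]; exact Submodule.smul_mem _ _ iha
  haveI := hU.isLocalization_basicOpen R
  have hu : IsUnit (resO X (X.basicOpen_le R) R) :=
    IsLocalization.Away.algebraMap_isUnit (S := Γ(X, X.basicOpen R)) R
  obtain ⟨k', z, hz⟩ := (isLoc_of_isQCoh hU (hM := hM)).exists_extend R y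
  have h1 := hres _ (hall z)
  rw [res_smul, hz, ← mul_smul, ← pow_succ'] at h1
  exact (Submodule.smul_mem_iff_of_isUnit _ (hu.pow (k' + 1))).1 h1

theorem isFinLocFree_of_rank (hM : Coh.IsQCoh M) (hFT : CohB1.IsFT M)
    (hrk : IsLocallyConstant (fun x => rk M x))
    (h : ∀ (D : X.Opens), IsAffineOpen D → ∀ (n : ℕ) (s : Fin n → Γ(M, D)),
      Submodule.span Γ(X, D) (Set.range s) = ⊤ → (∀ y ∈ D, rk M y = n) → LinearIndependent Γ(X, D) s) :
    FlatMod.IsFinLocFree M := by
  refine isFinLocFree_of_affine_free hM fun x => ?_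
  obtain ⟨U, hU, hx, hUc⟩ := exists_isAffineOpen_mem_and_subset (X := X)
    (U := ⟨{y | rk M y = rk M x}, hrk {rk M x}⟩) (show x ∈ _ from rfl)
  haveI := finite_sections hU (hM := hM) hFT
  obtain ⟨r, s, hxr, hs⟩ := exists_spanning hU hM hx
  have hli := h _ (hU.basicOpen r) _ s hs fun y hy => hUc (X.basicOpen_le r hy)
  let b := Module.Basis.mk hli hs.ge
  exact ⟨_, hU.basicOpen r, hxr, Module.Free.of_basis b, Module.Finite.of_basis b⟩

theorem indep_of_reduced [IsReduced X] {D : X.Opens} {n : ℕ}
    (s : Fin n → Γ(M, D)) (hD : IsAffineOpen D) (hM : Coh.IsQCoh M)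
    (hs : Submodule.span Γ(X, D) (Set.range s) = ⊤) (hn : ∀ y ∈ D, rk M y = n) :
    LinearIndependent Γ(X, D) s := by
  rw [Fintype.linearIndependent_iff]
  intro c hc i
  by_contra hne
  have : X.basicOpen (c i) = ⊥ := by
    ext y
    simp only [Opens.coe_bot, Set.mem_empty_iff_false, iff_false, SetLike.mem_coe]
    intro hy
    have hyD : y ∈ D := X.basicOpen_le _ hy
    have hli := indep_residue _ (span_germ hD hM hyD s hs) (hn y hyD)
    have hsum := congrArg (fun t => (1 : IsLocalRing.ResidueField (X.presheaf.stalk y))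
      ⊗ₜ[X.presheaf.stalk y] mgerm M hyD t) hc
    simp only [map_sum, map_zero, mgerm_smul, TensorProduct.tmul_sum, TensorProduct.tmul_zero,
      TensorProduct.tmul_smul] at hsum
    have := Fintype.linearIndependent_iff.1 hli
      (fun j => IsLocalRing.residue _ ((X.presheaf.germ D y hyD).hom (c j))) (by
        rw [← hsum]
        refine Finset.sum_congr rfl fun j _ => ?_
        exact algebraMap_smul (IsLocalRing.ResidueField (X.presheaf.stalk y))
          ((X.presheaf.germ D y hyD).hom (c j)) _) i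
    exact (IsLocalRing.residue_eq_zero_iff _).1 this ((X.mem_basicOpen _ y hyD).1 hy)
  exact hne ((basicOpen_eq_bot_iff _).1 this)

theorem indep_of_free_stalks {D : X.Opens} {n : ℕ} (s : Fin n → Γ(M, D)) (hD : IsAffineOpen D)
    (hM : Coh.IsQCoh M) (hfree : ∀ x, Module.Free (X.presheaf.stalk x) (M.presheaf.stalk x))
    (hs : Submodule.span Γ(X, D) (Set.range s) = ⊤) (hn : ∀ y ∈ D, rk M y = n) :
    LinearIndependent Γ(X, D) s := by
  rw [Fintype.linearIndependent_iff]
  intro c hc i
  refine TopCat.Presheaf.section_ext X.sheaf D (c i) 0 fun y hy => ?_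
  rw [map_zero]
  haveI := hfree y
  haveI : Module.Finite Γ(X, D) Γ(M, D) := ⟨Submodule.fg_def.mpr ⟨_, Set.finite_range _, hs⟩⟩
  haveI := finite_stalk hD hM hy
  let b := Module.Free.chooseBasis (X.presheaf.stalk y) (M.presheaf.stalk y)
  have hcard := (rk_of_basis b).symm.trans (hn y hy)
  let e : (Fin n → X.presheaf.stalk y) ≃ₗ[X.presheaf.stalk y] M.presheaf.stalk y :=
    (b.reindex (Fintype.equivFinOfCardEq hcard)).equivFun.symm
  let ψ : (Fin n → X.presheaf.stalk y) →ₗ[X.presheaf.stalk y] M.presheaf.stalk y :=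
    Fintype.linearCombination (X.presheaf.stalk y) fun j => mgerm M hy (s j)
  have hψ : Function.Surjective (e.symm.toLinearMap.comp ψ) := by
    refine e.symm.surjective.comp ?_
    rw [← LinearMap.range_eq_top, Fintype.range_linearCombination, span_germ hD hM hy s hs]
  have hinj := OrzechProperty.injective_of_surjective_endomorphism _ hψ
  have h0 : ψ (fun j => (X.presheaf.germ D y hy).hom (c j)) = 0 := by
    rw [Fintype.linearCombination_apply]
    have := congrArg (mgerm M hy) hc
    simp only [map_sum, map_zero, mgerm_smul] at this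
    exact this
  have := hinj (a₁ := fun j => (X.presheaf.germ D y hy).hom (c j)) (a₂ := 0)
    (by rw [map_zero, LinearMap.comp_apply, h0, map_zero])
  exact congrFun this i

theorem isLocallyConstant_rk (h : FlatMod.IsFinLocFree M) : IsLocallyConstant (fun x => rk M x) := by
  rw [IsLocallyConstant.iff_exists_open]
  intro x
  obtain ⟨W, n, hx, ⟨e⟩⟩ := h x
  obtain ⟨D, hD, hxD, hDW⟩ := exists_isAffineOpen_mem_and_subset (X := X) (U := W) hx
  obtain ⟨h1, h2⟩ := free_sections_of_le e hD hDW
  have hM := isQCoh_of_isFinLocFree h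
  let b := Module.Free.chooseBasis Γ(X, D) Γ(M, D)
  have key : ∀ y ∈ D, rk M y = Fintype.card (Module.Free.ChooseBasisIndex Γ(X, D) Γ(M, D)) := by
    intro y hy
    letI := (X.presheaf.germ D y hy).hom.toAlgebra
    haveI := hD.isLocalization_stalk ⟨y, hy⟩
    obtain ⟨g, hg⟩ := exists_stalkMap hD hM hy
    letI := Module.compHom (M.presheaf.stalk y) (X.presheaf.germ D y hy).hom
    haveI : IsScalarTower Γ(X, D) (X.presheaf.stalk y) (M.presheaf.stalk y) :=
      ⟨fun a c m => mul_smul ((X.presheaf.germ D y hy).hom a) c m⟩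
    haveI := hg
    exact rk_of_basis (b.ofIsLocalizedModule (X.presheaf.stalk y)
      (hD.primeIdealOf ⟨y, hy⟩).asIdeal.primeCompl g)
  exact ⟨D, D.2, hxD, fun y hy => (key y hy).trans (key x hxD).symm⟩

end Groth.Agent.LocFree
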