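import Groth.Agent.QC.FiniteType
import Groth.Agent.QC.Closure
import Groth.Agent.DerPerf.Local
import Groth.Prelude.Def_FlatMod2
import Mathlib

/-!
# A criterion for being finite locally free in terms of sections over affine opens
-/

set_option autoImplicit false
set_option backward.isDefEq.respectTransparency false

universe u

open CategoryTheory CategoryTheory.Limits AlgebraicGeometry TopologicalSpace Opposite Groth.Agent.QC

namespace Groth.Agent.LocFree

variable {X : Scheme.{u}} {M : X.Modules}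

/-- A free module of sections over an affine open trivialises a quasi-coherent module. -/
theorem exists_iso_free_of_affine [hM : M.IsQuasicoherent] {U : X.Opens} (hU : IsAffineOpen U)
    [Module.Free Γ(X, U) Γ(M, U)] [Module.Finite Γ(X, U) Γ(M, U)] :
    ∃ n : ℕ, Nonempty (M.restrict U.ι ≅ FlatMod.freeMod (↑U) n) := by
  classical
  rcases subsingleton_or_nontrivial Γ(X, U) with hR | hR
  · refine ⟨0, ⟨?_⟩⟩
    have hempty : ∀ x : X, x ∉ U := fun x hx => by
      have := hU.primeIdealOf ⟨x, hx⟩
      exact this.isPrime.ne_top (Subsingleton.elim _ _)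
    haveI : IsEmpty (↑U : Scheme.{u}) := ⟨fun x => hempty x.1 x.2⟩
    have hz : ∀ P : (↑U : Scheme.{u}).Modules, IsZero P := fun P => by
      rw [IsZero.iff_id_eq_zero]
      refine Scheme.Modules.hom_ext _ _ fun W => ?_
      ext s
      refine Groth.Agent.QC.section_eq_of_locally fun x _ => isEmptyElim x
    exact (hz _).iso (hz _)
  · let n := Fintype.card (Module.Free.ChooseBasisIndex Γ(X, U) Γ(M, U))
    refine ⟨n, ?_⟩
    let eI : Module.Free.ChooseBasisIndex Γ(X, U) Γ(M, U) ≃ ULift.{u} (Fin n) :=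
      (Fintype.equivFin _).trans Equiv.ulift.symm
    let b := ((Module.Free.chooseBasis Γ(X, U) Γ(M, U)).reindex eI)
    let e1 : Γ(M, U) ≃ₗ[Γ(X, U)] (ULift.{u} (Fin n) →₀ Γ(X, U)) := b.repr
    haveI : (M.restrict hU.fromSpec).IsQuasicoherent := isQCoh_restrict hU.fromSpec hM
    let e2 : (modulesSpecToSheaf.obj (M.restrict hU.fromSpec)).presheaf.obj (op ⊤) ≅
        ModuleCat.of Γ(X, U) (ULift.{u} (Fin n) →₀ Γ(X, U)) :=
      ((topEquiv hU M).trans e1).toModuleIso
    let e3 : M.restrict hU.fromSpec ≅ SheafOfModules.free.{u} (ULift.{u} (Fin n)) :=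
      (isoTildeΓ (M.restrict hU.fromSpec)).symm ≪≫ (tilde.functor _).mapIso e2 ≪≫
        tildeFinsupp (R := Γ(X, U)) (ULift.{u} (Fin n))
    let e4 : SheafOfModules.free.{u} (R := (Spec Γ(X, U)).ringCatSheaf) (ULift.{u} (Fin n)) ≅
        FlatMod.freeMod (Spec Γ(X, U)) n :=
      Sigma.whiskerEquiv (g := fun _ : Fin n => Coh.structureModule (Spec Γ(X, U))) Equiv.ulift
        fun _ => Iso.refl _
    exact ⟨(fromSpecIso hU M).symm ≪≫
      (Scheme.Modules.restrictFunctor hU.isoSpec.hom).mapIso (e3 ≪≫ e4) ≪≫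
      (Scheme.Modules.restrictFunctorIsoPullback hU.isoSpec.hom).app _ ≪≫
      Groth.Agent.DerPerf.pullFreeIso hU.isoSpec.hom n⟩

/-- Finite locally free is checked on an affine cover with free finite sections. -/
theorem isFinLocFree_of_affine_free (hM : Coh.IsQCoh M)
    (h : ∀ x : X, ∃ U : X.Opens, IsAffineOpen U ∧ x ∈ U ∧ Module.Free Γ(X, U) Γ(M, U) ∧
      Module.Finite Γ(X, U) Γ(M, U)) : FlatMod.IsFinLocFree M := fun x => by
  obtain ⟨U, hU, hx, h1, h2⟩ := h x
  obtain ⟨n, e⟩ := exists_iso_free_of_affine (hM := hM) hU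
  exact ⟨U, n, hx, e⟩

/-- Sections over a basic open inherit freeness from the localised module. -/
theorem free_finite_basicOpen (hM : Coh.IsQCoh M) {U : X.Opens} (hU : IsAffineOpen U) (r : Γ(X, U))
    [Module.Free (Localization (Submonoid.powers r)) (LocalizedModule.Away r Γ(M, U))]
    [Module.Finite Γ(X, U) Γ(M, U)] :
    Module.Free Γ(X, X.basicOpen r) Γ(M, X.basicOpen r) ∧
      Module.Finite Γ(X, X.basicOpen r) Γ(M, X.basicOpen r) := by
  set D := X.basicOpen r
  letI := Module.compHom Γ(M, D) (resO X (X.basicOpen_le r))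
  haveI := hU.isLocalization_basicOpen r
  haveI : IsScalarTower Γ(X, U) Γ(X, D) Γ(M, D) :=
    ⟨fun a c m => (mul_smul (resO X (X.basicOpen_le r) a) c m).symm ▸ rfl⟩
  have hloc : IsLoc M U := isLoc_of_isQCoh hU (hM := hM)
  let g : Γ(M, U) →ₗ[Γ(X, U)] Γ(M, D) :=
    { toFun := res M (X.basicOpen_le r)
      map_add' := map_add _
      map_smul' := fun a s => res_smul M _ a s }
  haveI hg : IsLocalizedModule (Submonoid.powers r) g := by
    refine IsLocalizedModule.Away.mk_of_addCommGroup ?_ ?_ ?_
    · have hu : IsUnit (algebraMap Γ(X, U) Γ(X, D) r) := IsLocalization.Away.algebraMap_isUnit r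
      rw [Module.End.isUnit_iff]
      exact hu.smul_bijective
    · intro y
      obtain ⟨n, s, hs⟩ := hloc.exists_extend r y
      exact ⟨n, s, (show res M (X.basicOpen_le r) s = r ^ n • y by
        rw [hs, ← map_pow]; rfl).symm⟩
    · intro s hs
      exact hloc.exists_pow_smul_eq_zero r s hs
  let e := IsLocalizedModule.iso (Submonoid.powers r) g
  let σ : Localization (Submonoid.powers r) ≃ₐ[Γ(X, U)] Γ(X, D) :=
    IsLocalization.algEquiv (Submonoid.powers r) _ _
  letI : RingHomInvPair (σ : Localization (Submonoid.powers r) →+* Γ(X, D))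
      (σ.symm : Γ(X, D) →+* Localization (Submonoid.powers r)) :=
    ⟨RingHom.ext fun a => σ.symm_apply_apply a, RingHom.ext fun a => σ.apply_symm_apply a⟩
  letI : RingHomInvPair (σ.symm : Γ(X, D) →+* Localization (Submonoid.powers r))
      (σ : Localization (Submonoid.powers r) →+* Γ(X, D)) :=
    ⟨RingHom.ext fun a => σ.apply_symm_apply a, RingHom.ext fun a => σ.symm_apply_apply a⟩
  let e' : LocalizedModule.Away r Γ(M, U) ≃ₛₗ[(σ : Localization (Submonoid.powers r) →+* Γ(X, D))]
      Γ(M, D) :=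
    { e.toAddEquiv with
      map_smul' := fun c m => by
        obtain ⟨a, s, rfl⟩ := IsLocalization.exists_mk'_eq (Submonoid.powers r) c
        have hu : IsUnit (algebraMap Γ(X, U) Γ(X, D) s.1) := IsLocalization.map_units _ s
        apply hu.smul_left_cancel.1
        change algebraMap Γ(X, U) Γ(X, D) s.1 • e _ = algebraMap Γ(X, U) Γ(X, D) s.1 •
          (σ (IsLocalization.mk' _ a s) • e m)
        have h1 : algebraMap Γ(X, U) Γ(X, D) s.1 * σ (IsLocalization.mk' _ a s) =
            algebraMap Γ(X, U) Γ(X, D) a := by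
          rw [← σ.commutes, ← map_mul, IsLocalization.mk'_spec', σ.commutes]
        have h2 : (s : Γ(X, U)) • (IsLocalization.mk' (Localization (Submonoid.powers r)) a s • m) =
            a • m := by
          rw [← algebraMap_smul (Localization (Submonoid.powers r)) (s : Γ(X, U)), ← mul_smul,
            IsLocalization.mk'_spec', algebraMap_smul]
        rw [← mul_smul, h1, algebraMap_smul, algebraMap_smul, ← map_smul, h2, map_smul] }
  refine ⟨Module.Free.of_equiv e', ?_⟩
  exact Module.Finite.of_isLocalizedModule (Submonoid.powers r) (Rₚ := Γ(X, D)) g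

/-- Finite projective sections over affine opens give a finite locally free module. -/
theorem isFinLocFree_of_affine_projective (hM : Coh.IsQCoh M)
    (h : ∀ x : X, ∃ U : X.Opens, IsAffineOpen U ∧ x ∈ U ∧
      Module.FinitePresentation Γ(X, U) Γ(M, U) ∧ Module.Flat Γ(X, U) Γ(M, U)) :
    FlatMod.IsFinLocFree M := by
  refine isFinLocFree_of_affine_free hM fun x => ?_
  obtain ⟨U, hU, hx, hfp, hflat⟩ := h x
  let p := (hU.primeIdealOf ⟨x, hx⟩).asIdeal
  haveI : Module.Free (Localization.AtPrime p) (LocalizedModule p.primeCompl Γ(M, U)) :=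
    Module.free_of_flat_of_isLocalRing
  obtain ⟨r, hr, hfree⟩ := Module.FinitePresentation.exists_free_localizedModule_powers p.primeCompl
    (LocalizedModule.mkLinearMap p.primeCompl Γ(M, U)) (Localization.AtPrime p)
  haveI := hfree.1
  haveI : Module.Finite Γ(X, U) Γ(M, U) := inferInstance
  obtain ⟨h1, h2⟩ := free_finite_basicOpen hM hU r
  refine ⟨X.basicOpen r, hU.basicOpen r, ?_, h1, h2⟩
  have hfs : hU.fromSpec.base (hU.primeIdealOf ⟨x, hx⟩) = x := hU.fromSpec_primeIdealOf ⟨x, hx⟩
  have hm : hU.primeIdealOf ⟨x, hx⟩ ∈ hU.fromSpec ⁻¹ᵁ X.basicOpen r := by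
    rw [hU.fromSpec_preimage_basicOpen]
    exact hr
  rw [← hfs]
  exact hm

end Groth.Agent.LocFree
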