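import Groth.Agent.LocFree.Rank
import Mathlib

/-!
A locally free module of rank `r` is free near a finite set of points contained in an affine open.
-/

set_option autoImplicit false
set_option backward.isDefEq.respectTransparency false
set_option linter.style.haveILetI false

universe u

open CategoryTheory CategoryTheory.Limits AlgebraicGeometry TopologicalSpace Opposite Groth.Agent.QC
open TensorProduct

noncomputable section

namespace Groth.Agent.LocFree

variable {X : Scheme.{u}} {M : X.Modules}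

theorem exists_basis_sections_of_le {W : X.Opens} {n : ℕ} (e : M.restrict W.ι ≅ FlatMod.freeMod (↑W) n)
    {D : X.Opens} (hD : IsAffineOpen D) (hDW : D ≤ W) :
    Nonempty (Module.Basis (ULift.{u} (Fin n)) Γ(X, D) Γ(M, D)) := by
  let ι' : Spec Γ(X, D) ⟶ (W : Scheme.{u}) :=
    IsOpenImmersion.lift W.ι hD.fromSpec (by rw [hD.range_fromSpec, Scheme.Opens.range_ι]; exact hDW)
  have hι : ι' ≫ W.ι = hD.fromSpec := IsOpenImmersion.lift_fac _ _ _
  haveI : IsOpenImmersion (ι' ≫ W.ι) := by rw [hι]; infer_instance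
  haveI : IsOpenImmersion ι' := IsOpenImmersion.of_comp ι' W.ι
  let e' : M.restrict hD.fromSpec ≅ FlatMod.freeMod (Spec Γ(X, D)) n :=
    (Scheme.Modules.restrictFunctorCongr hι).symm.app M ≪≫
      (Scheme.Modules.restrictFunctorComp ι' W.ι).app M ≪≫
      (Scheme.Modules.restrictFunctor ι').mapIso e ≪≫
      (Scheme.Modules.restrictFunctorIsoPullback ι').app _ ≪≫
      Groth.Agent.DerPerf.pullFreeIso ι' n
  let e'' : M.restrict hD.fromSpec ≅ tilde (ModuleCat.of Γ(X, D) (ULift.{u} (Fin n) →₀ Γ(X, D))) :=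
    e' ≪≫ (Sigma.whiskerEquiv (f := fun _ : ULift.{u} (Fin n) => Coh.structureModule (Spec Γ(X, D)))
      (g := fun _ : Fin n => Coh.structureModule (Spec Γ(X, D))) Equiv.ulift (fun _ => Iso.refl _)).symm ≪≫
      (tildeFinsupp (R := Γ(X, D)) (ULift.{u} (Fin n))).symm
  let l : Γ(M, D) ≃ₗ[Γ(X, D)] (ULift.{u} (Fin n) →₀ Γ(X, D)) :=
    (topEquiv hD M).symm.trans (moduleSpecΓFunctor.mapIso e'' ≪≫
      (tilde.toTildeΓNatIso.app (ModuleCat.of Γ(X, D) (ULift.{u} (Fin n) →₀ Γ(X, D)))).symm).toLinearEquiv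
  exact ⟨⟨l⟩⟩

theorem exists_basis_stalk {W : X.Opens} {n : ℕ} (e : M.restrict W.ι ≅ FlatMod.freeMod (↑W) n)
    (hM : Coh.IsQCoh M) {x : X} (hx : x ∈ W) :
    Nonempty (Module.Basis (ULift.{u} (Fin n)) (X.presheaf.stalk x) (M.presheaf.stalk x)) := by
  obtain ⟨D, hD, hxD, hDW⟩ := exists_isAffineOpen_mem_and_subset (X := X) (U := W) hx
  obtain ⟨b⟩ := exists_basis_sections_of_le e hD hDW
  letI := (X.presheaf.germ D x hxD).hom.toAlgebra
  haveI := hD.isLocalization_stalk ⟨x, hxD⟩
  obtain ⟨g, hg⟩ := exists_stalkMap hD hM hxD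
  letI := Module.compHom (M.presheaf.stalk x) (X.presheaf.germ D x hxD).hom
  haveI : IsScalarTower Γ(X, D) (X.presheaf.stalk x) (M.presheaf.stalk x) :=
    ⟨fun a c m => mul_smul ((X.presheaf.germ D x hxD).hom a) c m⟩
  haveI := hg
  exact ⟨b.ofIsLocalizedModule (X.presheaf.stalk x) (hD.primeIdealOf ⟨x, hxD⟩).asIdeal.primeCompl g⟩

theorem rankAtStalk_eq_of_isFinLocFreeOfRank {r : ℕ} (h : FlatMod.IsFinLocFreeOfRank r M)
    (hM : Coh.IsQCoh M) {V : X.Opens} (hV : IsAffineOpen V) {x : X} (hx : x ∈ V)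
    [Module.Flat Γ(X, V) Γ(M, V)] [Module.FinitePresentation Γ(X, V) Γ(M, V)] :
    Module.rankAtStalk (R := Γ(X, V)) Γ(M, V) (hV.primeIdealOf ⟨x, hx⟩) = r := by
  obtain ⟨W, hxW, ⟨e⟩⟩ := h x
  obtain ⟨b⟩ := exists_basis_stalk e hM hxW
  letI := (X.presheaf.germ V x hx).hom.toAlgebra
  haveI := hV.isLocalization_stalk ⟨x, hx⟩
  obtain ⟨g, hg⟩ := exists_stalkMap hV hM hx
  letI := Module.compHom (M.presheaf.stalk x) (X.presheaf.germ V x hx).hom
  haveI : IsScalarTower Γ(X, V) (X.presheaf.stalk x) (M.presheaf.stalk x) :=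
    ⟨fun a c m => mul_smul ((X.presheaf.germ V x hx).hom a) c m⟩
  haveI := hg
  haveI : Module.Free (X.presheaf.stalk x) (M.presheaf.stalk x) := Module.Free.of_basis b
  have h1 := Module.rankAtStalk_isBaseChange
    (IsLocalizedModule.isBaseChange (hV.primeIdealOf ⟨x, hx⟩).asIdeal.primeCompl (X.presheaf.stalk x) g)
    (IsLocalRing.closedPoint (X.presheaf.stalk x))
  have h2 : (IsLocalRing.closedPoint (X.presheaf.stalk x)).comap
      (algebraMap Γ(X, V) (X.presheaf.stalk x)) = hV.primeIdealOf ⟨x, hx⟩ :=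
    PrimeSpectrum.ext (IsLocalization.AtPrime.under_maximalIdeal _ _)
  rw [h2, Module.rankAtStalk_eq_finrank_of_free] at h1
  refine h1.symm.trans ?_
  change Module.finrank (X.presheaf.stalk x) (M.presheaf.stalk x) = r
  rw [Module.finrank_eq_card_basis b]
  simp

/-- Semilocal freeness: spreading out from a finite set of primes. -/
theorem exists_free_away {A N : Type u} [CommRing A] [AddCommGroup N] [Module A N]
    [Module.Flat A N] [Module.FinitePresentation A N] {ι : Type u} [Finite ι] [Nonempty ι]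
    (p : ι → PrimeSpectrum A) (r : ℕ) (hr : ∀ i, Module.rankAtStalk N (p i) = r) :
    ∃ f : A, (∀ i, f ∉ (p i).asIdeal) ∧
      Module.Free (Localization (Submonoid.powers f)) (LocalizedModule.Away f N) := by
  classical
  haveI := Fintype.ofFinite ι
  let S : Submonoid A := ⨅ i, (p i).asIdeal.primeCompl
  have hS : ∀ a, a ∈ S ↔ ∀ i, a ∉ (p i).asIdeal := fun a => Submonoid.mem_iInf
  let B := Localization S
  obtain ⟨i₀⟩ := ‹Nonempty ι›
  haveI : Nontrivial B := nontrivial_of_ne (0 : B) 1 fun h => by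
    rw [← map_zero (algebraMap A B), ← map_one (algebraMap A B)] at h
    obtain ⟨c, hc⟩ := (IsLocalization.eq_iff_exists S B).1 h
    rw [mul_zero, mul_one] at hc
    exact (hS c).1 c.2 i₀ (hc ▸ zero_mem _)
  have hdisj : ∀ i, Disjoint (S : Set A) ((p i).asIdeal : Set A) := fun i =>
    Set.disjoint_left.2 fun a ha => (hS a).1 ha i
  have hmax : ∀ P : MaximalSpectrum B, ∃ i, P.1.comap (algebraMap A B) = (p i).asIdeal := by
    intro P
    have hd : Disjoint (S : Set A) (P.1.comap (algebraMap A B) : Set A) :=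
      ((IsLocalization.isPrime_iff_isPrime_disjoint S B P.1).1 P.2.isPrime).2
    have hsub : ((P.1.comap (algebraMap A B) : Ideal A) : Set A) ⊆ ⋃ i ∈ ((Finset.univ : Finset ι) : Set ι), ((p i).asIdeal : Set A) := by
      intro a ha
      by_contra hn
      refine Set.disjoint_left.1 hd ((hS a).2 fun i hi => hn ?_) ha
      exact Set.mem_biUnion (Finset.mem_coe.2 (Finset.mem_univ i)) hi
    obtain ⟨i, -, hi⟩ := (Ideal.subset_union_prime i₀ i₀ fun i _ _ _ => (p i).isPrime).1 hsub
    refine ⟨i, le_antisymm hi ?_⟩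
    have hne : Ideal.map (algebraMap A B) (p i).asIdeal ≠ ⊤ :=
      (IsLocalization.isPrime_of_isPrime_disjoint S B _ (p i).isPrime (hdisj i)).ne_top
    have hle : P.1 ≤ Ideal.map (algebraMap A B) (p i).asIdeal := by
      exact (IsLocalization.map_under S B P.1).ge.trans (Ideal.map_mono hi)
    rw [P.2.eq_of_le hne hle]
    exact Ideal.le_comap_map
  haveI : Finite (MaximalSpectrum B) := by
    choose i hi using hmax
    refine Finite.of_injective i fun P Q h => MaximalSpectrum.ext ?_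
    refine (IsLocalization.map_under S B P.1).symm.trans (Eq.trans ?_ (IsLocalization.map_under S B Q.1))
    exact congrArg (Ideal.map (algebraMap A B)) ((hi P).trans ((congrArg (fun j => (p j).asIdeal) h).trans (hi Q).symm))
  let g := LocalizedModule.mkLinearMap S N
  haveI : Module.Finite B (LocalizedModule S N) := Module.Finite.of_isLocalizedModule S (Rₚ := B) g
  haveI : Module.Flat B (LocalizedModule S N) := inferInstance
  have hfree : Module.Free B (LocalizedModule S N) := by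
    refine Module.free_of_flat_of_finrank_eq B _ r fun P => ?_
    obtain ⟨i, hi⟩ := hmax P
    letI := Ideal.Quotient.field P.1
    have h1 : Module.rankAtStalk (R := B) (LocalizedModule S N) ⟨P.1, P.2.isPrime⟩ = r := by
      rw [Module.rankAtStalk_isBaseChange (IsLocalizedModule.isBaseChange S B g)]
      exact (congrArg (Module.rankAtStalk N) (PrimeSpectrum.ext hi)).trans (hr i)
    rw [Module.rankAtStalk_eq] at h1
    rw [← h1]
    refine Eq.trans ?_ (AlgebraTensorModule.cancelBaseChange B (B ⧸ P.1) P.1.ResidueField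
      P.1.ResidueField (LocalizedModule S N)).finrank_eq
    exact (Module.finrank_baseChange (R := P.1.ResidueField) (S := B ⧸ P.1)
      (M' := (B ⧸ P.1) ⊗[B] LocalizedModule S N)).symm
  haveI := hfree
  obtain ⟨f, hf, hf', -⟩ :=
    Module.FinitePresentation.exists_free_localizedModule_powers S g B
  exact ⟨f, (hS f).1 hf, hf'⟩

theorem exists_free_nhd {r : ℕ} (hE : FlatMod.IsFinLocFreeOfRank r M) {Z : Set X} (hZ : Z.Finite)
    {V : X.Opens} (hV : IsAffineOpen V) (hZV : Z ⊆ V) :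
    ∃ U : X.Opens, Z ⊆ U ∧ U ≤ V ∧ Nonempty (M.restrict U.ι ≅ FlatMod.freeMod (U : Scheme.{u}) r) := by
  classical
  have hE' : FlatMod.IsFinLocFree M := fun x => by
    obtain ⟨U, hx, e⟩ := hE x
    exact ⟨U, r, hx, e⟩
  have hM := isQCoh_of_isFinLocFree hE'
  rcases Z.eq_empty_or_nonempty with rfl | hne
  · refine ⟨⊥, Set.empty_subset _, bot_le, ⟨?_⟩⟩
    haveI : IsEmpty ((⊥ : X.Opens) : Scheme.{u}) := ⟨fun x => x.2⟩
    have hz : ∀ P : ((⊥ : X.Opens) : Scheme.{u}).Modules, IsZero P := fun P => by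
      rw [IsZero.iff_id_eq_zero]
      refine Scheme.Modules.hom_ext _ _ fun W => ?_
      ext s
      refine Groth.Agent.QC.section_eq_of_locally fun x _ => isEmptyElim x
    exact (hz _).iso (hz _)
  haveI := finitePresentation_sections hE' hV
  haveI := projective_sections hE' hV
  haveI := hZ.to_subtype
  haveI : Nonempty Z := hne.to_subtype
  obtain ⟨f, hf, hfree⟩ := exists_free_away (A := Γ(X, V)) (N := Γ(M, V))
    (fun z : Z => hV.primeIdealOf ⟨z.1, hZV z.2⟩) r
    (fun z => rankAtStalk_eq_of_isFinLocFreeOfRank hE hM hV (hZV z.2))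
  have hmem : ∀ z : Z, z.1 ∈ X.basicOpen f := fun z => by
    have h := hV.fromSpec_preimage_basicOpen f
    have h2 : hV.primeIdealOf ⟨z.1, hZV z.2⟩ ∈ hV.fromSpec ⁻¹ᵁ X.basicOpen f := by
      rw [h]; exact hf z
    have h3 : hV.fromSpec (hV.primeIdealOf ⟨z.1, hZV z.2⟩) ∈ X.basicOpen f := h2
    rwa [hV.fromSpec_primeIdealOf] at h3
  obtain ⟨h1, h2⟩ := free_finite_basicOpen hM hV f
  haveI := h1
  haveI := h2
  obtain ⟨n, ⟨e⟩⟩ := exists_iso_free_of_affine (hM := hM) (hV.basicOpen f)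
  obtain ⟨z, hz⟩ := hne
  obtain ⟨W, hzW, ⟨e'⟩⟩ := hE z
  obtain ⟨b⟩ := exists_basis_stalk e hM (hmem ⟨z, hz⟩)
  obtain ⟨b'⟩ := exists_basis_stalk e' hM hzW
  have hn : n = r := by simpa using Fintype.card_congr (b.indexEquiv b')
  subst hn
  exact ⟨X.basicOpen f, fun y hy => hmem ⟨y, hy⟩, X.basicOpen_le f, ⟨e⟩⟩

end Groth.Agent.LocFree
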