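import Groth.Agent.LocFree.Basic
import Groth.Agent.QC.Coherent
import Mathlib

/-!
# Direct summands of finite free modules are finite locally free
-/

set_option autoImplicit false
set_option backward.isDefEq.respectTransparency false

universe u

open CategoryTheory CategoryTheory.Limits AlgebraicGeometry TopologicalSpace Opposite Groth.Agent.QC

namespace Groth.Agent.LocFree

variable {X : Scheme.{u}}

lemma appₗ_comp {M N P : X.Modules} (f : M ⟶ N) (g : N ⟶ P) (U : X.Opens) (s : Γ(M, U)) :
    appₗ (f ≫ g) U s = appₗ g U (appₗ f U s) := rfl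

lemma sum_app {M N : X.Modules} {ι : Type*} (t : Finset ι) (f : ι → (M ⟶ N)) (U : X.Opens)
    (s : Γ(M, U)) : appₗ (∑ i ∈ t, f i) U s = ∑ i ∈ t, appₗ (f i) U s := by
  classical
  induction t using Finset.induction_on with
  | empty => rw [Finset.sum_empty, Finset.sum_empty]; rfl
  | @insert a t ha ih =>
    rw [Finset.sum_insert ha, Finset.sum_insert ha, ← ih]
    rfl

theorem projective_free_sections (U : X.Opens) (n : ℕ) :
    Module.Finite Γ(X, U) Γ(FlatMod.freeMod X n, U) ∧
      Module.Projective Γ(X, U) Γ(FlatMod.freeMod X n, U) := by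
  classical
  haveI : HasFiniteBiproducts X.Modules := HasFiniteBiproducts.of_hasFiniteProducts
  let e : FlatMod.freeMod X n ≅ ⨁ fun _ : Fin n => Coh.structureModule X :=
    (biproduct.isoCoproduct _).symm
  let p : Fin n → (FlatMod.freeMod X n ⟶ Coh.structureModule X) :=
    fun i => e.hom ≫ biproduct.π (fun _ : Fin n => Coh.structureModule X) i
  let q : Fin n → (Coh.structureModule X ⟶ FlatMod.freeMod X n) :=
    fun i => biproduct.ι (fun _ : Fin n => Coh.structureModule X) i ≫ e.inv
  have htot : ∑ i, p i ≫ q i = 𝟙 _ := by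
    have h1 : ∀ i, p i ≫ q i = e.hom ≫ (biproduct.π (fun _ : Fin n => Coh.structureModule X) i ≫
        biproduct.ι (fun _ : Fin n => Coh.structureModule X) i) ≫ e.inv := fun i => by
      simp only [p, q, Category.assoc]
    rw [Finset.sum_congr rfl fun i _ => h1 i, ← Preadditive.comp_sum, ← Preadditive.sum_comp,
      biproduct.total, Category.id_comp, e.hom_inv_id]
  let ψ : (Fin n → Γ(X, U)) →ₗ[Γ(X, U)] Γ(FlatMod.freeMod X n, U) :=
    Fintype.linearCombination Γ(X, U) fun i => appₗ (q i) U (1 : Γ(X, U))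
  let φ : Γ(FlatMod.freeMod X n, U) →ₗ[Γ(X, U)] (Fin n → Γ(X, U)) :=
    { toFun := fun s i => (appₗ (p i) U s : Γ(X, U))
      map_add' := fun s t => funext fun i => map_add (appₗ (p i) U) s t
      map_smul' := fun a s => funext fun i => map_smul (appₗ (p i) U) a s }
  have hφψ : ψ.comp φ = LinearMap.id := by
    refine LinearMap.ext fun s => ?_
    have h := congrArg (fun f => appₗ f U s) htot
    simp only [sum_app] at h
    refine Eq.trans ?_ (h.trans (show appₗ (𝟙 _) U s = s from rfl))
    change ψ (φ s) = _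
    rw [Fintype.linearCombination_apply]
    refine Finset.sum_congr rfl fun i _ => ?_
    rw [appₗ_comp]
    refine (map_smul (appₗ (q i) U) (φ s i) (1 : Γ(X, U))).symm.trans (congrArg (appₗ (q i) U) ?_)
    exact mul_one (φ s i)
  exact ⟨Module.Finite.of_surjective ψ (fun s => ⟨φ s, LinearMap.congr_fun hφψ s⟩),
    Module.Projective.of_split φ ψ hφψ⟩

theorem isFinLocFree_of_retract (M : X.Modules) (n : ℕ) (i : M ⟶ FlatMod.freeMod X n)
    (r : FlatMod.freeMod X n ⟶ M) (hir : i ≫ r = 𝟙 M) : FlatMod.IsFinLocFree M := by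
  have hF : Coh.IsQCoh (FlatMod.freeMod X n) := by
    refine isQCoh_of_local fun x => ⟨X, 𝟙 X, inferInstance, ⟨x, rfl⟩, ?_⟩
    exact isQCoh_of_iso (X := X) ((Scheme.Modules.restrictFunctorIsoPullback (𝟙 X)).app _ ≪≫
      Groth.Agent.DerPerf.pullFreeIso (𝟙 X) n ≪≫
      (Sigma.whiskerEquiv (f := fun _ : ULift.{u} (Fin n) => Coh.structureModule X)
        Equiv.ulift (fun _ => Iso.refl _)).symm).symm
      (show Coh.IsQCoh (SheafOfModules.free.{u} (R := X.ringCatSheaf) (ULift.{u} (Fin n))) from inferInstance)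
  have hM : Coh.IsQCoh M := by
    let k : KernelFork (r ≫ i - 𝟙 _) := KernelFork.ofι i (by
      rw [Preadditive.comp_sub, ← Category.assoc, hir, Category.id_comp, Category.comp_id, sub_self])
    haveI : IsSplitMono i := ⟨⟨⟨r, hir⟩⟩⟩
    have hk : IsLimit k := KernelFork.IsLimit.ofι' _ _ fun {A} a ha => ⟨a ≫ r, by
      rw [Preadditive.comp_sub, Category.comp_id, sub_eq_zero, ← Category.assoc] at ha
      exact ha⟩
    exact isQCoh_of_iso (hk.conePointUniqueUpToIso (kernelIsKernel _)).symm
      (isQCoh_kernel hF hF _)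
  refine isFinLocFree_of_affine_projective hM fun x => ?_
  obtain ⟨U, hU, hx⟩ := exists_affine_mem x
  obtain ⟨h1, h2⟩ := projective_free_sections (X := X) U n
  have hs : (appₗ r U).comp (appₗ i U) = LinearMap.id :=
    LinearMap.ext fun s => (appₗ_comp i r U s).symm.trans (congrArg (fun f => appₗ f U s) hir)
  haveI : Module.Finite Γ(X, U) Γ(M, U) :=
    Module.Finite.of_surjective (appₗ r U) fun s => ⟨appₗ i U s, LinearMap.congr_fun hs s⟩
  haveI : Module.Projective Γ(X, U) Γ(M, U) := Module.Projective.of_split (appₗ i U) (appₗ r U) hs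
  exact ⟨U, hU, hx, Module.finitePresentation_of_projective Γ(X, U) Γ(M, U), inferInstance⟩

end Groth.Agent.LocFree
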